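import Cfsg.Agent.LocalSymThree.Basic
import Cfsg.Agent.SpecBlow.CoxeterA
import Mathlib.GroupTheory.SpecificGroups.Alternating

set_option autoImplicit false
set_option synthInstance.maxSize 2000
set_option synthInstance.maxHeartbeats 400000

/-!
The Petersen configuration: the set is the class of transpositions of `S₅`.
-/

namespace CfsgLib.LocalSymThree

open CfsgLib

/-- The Petersen graph has no proper colouring of its edges with three colours. -/
theorem petersen_colour : ∀ da db : Fin 3, db ≠ da → ∀ dc : Fin 3, dc ≠ da → dc ≠ db → ∀ ax : Fin 3, ax ≠ da →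
    ∀ ae : Fin 3, ae ≠ da → ae ≠ ax → ∀ bU : Fin 3, bU ≠ db → ∀ bV : Fin 3, bV ≠ db → bV ≠ bU →
    ∀ cX : Fin 3, cX ≠ dc → ∀ cE : Fin 3, cE ≠ dc → cE ≠ cX → ∀ xV : Fin 3, xV ≠ ax → xV ≠ bV →
    ∀ xE : Fin 3, xE ≠ ax → xE ≠ xV → xE ≠ cE → ∀ eU : Fin 3, eU ≠ ae → eU ≠ bU →
    ∀ eX : Fin 3, eX ≠ ae → eX ≠ eU → eX ≠ cX → ∀ XV : Fin 3, XV ≠ cX → XV ≠ eX → XV ≠ bV → XV ≠ xV →
    ∀ EU : Fin 3, EU ≠ cE → EU ≠ xE → EU ≠ bU → EU ≠ eU → False := by
  decide +kernel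

theorem perm5_centralizer : ∀ k : Equiv.Perm (Fin 5),
    k * (Equiv.swap 0 1 * Equiv.swap 1 2) = (Equiv.swap 0 1 * Equiv.swap 1 2) * k →
    k * (Equiv.swap 2 3 * Equiv.swap 3 4) = (Equiv.swap 2 3 * Equiv.swap 3 4) * k → k = 1 := by
  decide +kernel

theorem hom_perm5_injective {H : Type*} [Group H] (f : Equiv.Perm (Fin 5) →* H)
    (h : f (CoxeterA.adj 4 0) * f (CoxeterA.adj 4 2) ≠ 1) : Function.Injective f := by
  have hn : (f.ker.subgroupOf (alternatingGroup (Fin 5))).Normal := inferInstance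
  haveI : IsSimpleGroup (alternatingGroup (Fin 5)) := alternatingGroup.isSimpleGroup_five
  rcases hn.eq_bot_or_eq_top with hb | ht
  · rw [injective_iff_map_eq_one]
    intro k hk
    have hcomm : ∀ g ∈ alternatingGroup (Fin 5), k * g = g * k := by
      intro g hg
      have hmem : k * g * k⁻¹ * g⁻¹ ∈ alternatingGroup (Fin 5) :=
        mul_mem (Subgroup.Normal.conj_mem inferInstance g hg k) (inv_mem hg)
      have hker : k * g * k⁻¹ * g⁻¹ ∈ f.ker := by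
        rw [MonoidHom.mem_ker, map_mul, map_mul, map_mul, map_inv, map_inv, hk, inv_one, mul_one, one_mul,
          mul_inv_cancel]
      have h1 : (⟨_, hmem⟩ : alternatingGroup (Fin 5)) ∈ f.ker.subgroupOf (alternatingGroup (Fin 5)) := hker
      rw [hb, Subgroup.mem_bot] at h1
      exact mul_inv_eq_iff_eq_mul.1 (mul_inv_eq_one.1 (congrArg Subtype.val h1))
    refine perm5_centralizer k (hcomm _ ?_) (hcomm _ ?_) <;>
      · rw [Equiv.Perm.mem_alternatingGroup]; decide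
  · exfalso
    have hmem : CoxeterA.adj 4 0 * CoxeterA.adj 4 2 ∈ alternatingGroup (Fin 5) := by
      rw [Equiv.Perm.mem_alternatingGroup]; decide
    have h1 : (⟨_, hmem⟩ : alternatingGroup (Fin 5)) ∈ f.ker.subgroupOf (alternatingGroup (Fin 5)) :=
      ht ▸ Subgroup.mem_top _
    exact h (by rw [← map_mul]; exact h1)

variable {G : Type*} [Group G] {D : Set G} (hD : Hyp D)

/-- The ten members around a member with no twin. -/
structure Ten (D : Set G) (d a b c x e X E U V : G) : Prop where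
  rdef : e = d * x * d ∧ c = a * b * a ∧ X = b * x * b ∧ E = b * e * b ∧ U = c * x * c ∧ V = c * e * c
  md : d ∈ D
  da : a ∈ nbr D d
  db : b ∈ nbr D d
  dc : c ∈ nbr D d
  ax : x ∈ nbr D a
  ae : e ∈ nbr D a
  bU : U ∈ nbr D b
  bV : V ∈ nbr D b
  cX : X ∈ nbr D c
  cE : E ∈ nbr D c
  xV : V ∈ nbr D x
  xE : E ∈ nbr D x
  eU : U ∈ nbr D e
  eX : X ∈ nbr D e
  XV : V ∈ nbr D X
  EU : U ∈ nbr D E
  nd : a ≠ b ∧ a ≠ c ∧ b ≠ c
  na : d ≠ x ∧ d ≠ e ∧ x ≠ e
  nb : d ≠ U ∧ d ≠ V ∧ U ≠ V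
  nc : d ≠ X ∧ d ≠ E ∧ X ≠ E
  nx : a ≠ V ∧ a ≠ E ∧ V ≠ E
  ne : a ≠ U ∧ a ≠ X ∧ U ≠ X
  nX : c ≠ e ∧ c ≠ V ∧ e ≠ V
  nV : b ≠ x ∧ b ≠ X ∧ x ≠ X
  nE : c ≠ x ∧ c ≠ U ∧ x ≠ U
  nU : b ≠ e ∧ b ≠ E ∧ e ≠ E

include hD

theorem exists_ten {d : G} (hd : d ∈ D) (h1 : ∀ x ∈ D, nbr D x = nbr D d → x = d) :
    ∃ a b c x e X E U V, Ten D d a b c x e X E U V := by
  obtain ⟨a, b, ha, hb, hab⟩ := exists_two hD hd
  obtain ⟨hc, hca, hcb, -⟩ := nbr_eq hD hd ha hb hab
  obtain ⟨c, hcdef⟩ : ∃ c, c = a * b * a := ⟨_, rfl⟩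
  rw [← hcdef] at hc hca hcb
  have nab := not_comm_of_nbr hD hd ha hb hab
  have nac := not_comm_of_nbr hD hd ha hc hca.symm
  have nbc := not_comm_of_nbr hD hd hb hc hcb.symm
  have bab : b * a * b = c := by rw [hcdef]; exact (ThreeT.braid hD.three ha.1 hb.1 nab).symm
  have cbc : c * b * c = a := by
    conv_lhs => rw [← bab]
    rw [show b * a * b * b * (b * a * b) = b * a * (b * b) * b * a * b by group, sq hD hb.1, mul_one,
      show b * a * b * a * b = b * (a * b * a) * b by group, ← hcdef]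
    nth_rewrite 1 [← bab]
    exact cj_cj hD hb.1 a
  have cac : c * a * c = b := by
    conv_lhs => rw [hcdef]
    rw [show a * b * a * a * (a * b * a) = a * b * (a * a) * a * b * a by group, sq hD ha.1, mul_one,
      show a * b * a * b * a = a * (b * a * b) * a by group, bab, hcdef]
    exact cj_cj hD ha.1 b
  -- a second neighbour of `a`
  obtain ⟨x, hx, hxd⟩ : ∃ x, x ∈ nbr D a ∧ x ≠ d := by
    obtain ⟨u, v, hu, hv, huv⟩ := exists_two hD ha.1
    by_cases h : u = d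
    · exact ⟨v, hv, fun e => huv (h.trans e.symm)⟩
    · exact ⟨u, hu, h⟩
  have hda : d ∈ nbr D a := nbr_symm hD hd ha
  have nxd : ¬ Commute x d := not_comm_of_nbr hD ha.1 hx hda hxd
  have key : ∀ {p q v : G}, p ∈ nbr D d → q ∈ nbr D d → p ≠ q → v ∈ nbr D p → v ∈ nbr D q → v = d :=
    fun hp hq hne hv hv' => h1 _ hv.1 (nbr_subset hD hd hv.1 hp hq hne hv hv')
  have nxb : ¬ Commute x b := fun h => hxd (key ha hb hab hx ⟨hx.1, fun e => nab (e ▸ hx.2.2), h.symm⟩)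
  have nxc : ¬ Commute x c := fun h => hxd (key ha hc hca.symm hx ⟨hx.1, fun e => nac (e ▸ hx.2.2), h.symm⟩)
  obtain ⟨e, hedef⟩ : ∃ e, e = d * x * d := ⟨_, rfl⟩
  have he : e ∈ nbr D a := by
    have := nbr_cj hD hd hx
    rwa [cj_fix hD hd ha.2.2, ← hedef] at this
  have hed : e ≠ d := fun h => hxd (cj_inj hD (show d * x * d = d * d * d by
    rw [← hedef, h, sq hD hd, one_mul]))
  have hex : e ≠ x := fun h => nxd (by
    show x * d = d * x
    conv_lhs => rw [← h, hedef]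
    rw [mul_assoc _ d d, sq hD hd, mul_one])
  have neb : ¬ Commute e b := fun h => nxb ((cj_commute hD hd).1 (by rw [← hedef, cj_fix hD hd hb.2.2]; exact h))
  have nec : ¬ Commute e c := fun h => nxc ((cj_commute hD hd).1 (by rw [← hedef, cj_fix hD hd hc.2.2]; exact h))
  have ned : ¬ Commute e d := not_comm_of_nbr hD ha.1 he hda hed
  have ded : d * e * d = x := by rw [hedef]; exact cj_cj hD hd x
  have xV : c * e * c ∈ nbr D x := by
    rw [hedef]; exact path_nbr hD hx.1 hd hc.1 hc.2.1.symm hc.2.2 nxd nxc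
  have xE : b * e * b ∈ nbr D x := by
    rw [hedef]; exact path_nbr hD hx.1 hd hb.1 hb.2.1.symm hb.2.2 nxd nxb
  have eU : c * x * c ∈ nbr D e := by
    rw [← ded]; exact path_nbr hD he.1 hd hc.1 hc.2.1.symm hc.2.2 ned nec
  have eX : b * x * b ∈ nbr D e := by
    rw [← ded]; exact path_nbr hD he.1 hd hb.1 hb.2.1.symm hb.2.2 ned neb
  have cX : b * x * b ∈ nbr D c := bab ▸ nbr_cj hD hb.1 hx
  have cE : b * e * b ∈ nbr D c := bab ▸ nbr_cj hD hb.1 he
  have bU : c * x * c ∈ nbr D b := cac ▸ nbr_cj hD hc.1 hx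
  have bV : c * e * c ∈ nbr D b := cac ▸ nbr_cj hD hc.1 he
  have XV : c * e * c ∈ nbr D (b * x * b) := by
    have := nbr_cj hD hb.1 xV
    rwa [cj_fix hD hb.1 bV.2.2] at this
  have EU : c * x * c ∈ nbr D (b * e * b) := by
    have := nbr_cj hD hb.1 eU
    rwa [cj_fix hD hb.1 bU.2.2] at this
  have fixd : ∀ {g v : G}, g ∈ nbr D d → d = g * v * g → v = d := fun {g v} hg h => by
    refine cj_inj hD (g := g) ?_
    rw [← h, cj_fix hD hg.1 hg.2.2.symm]
  refine ⟨a, b, c, x, e, b * x * b, b * e * b, c * x * c, c * e * c,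
    ⟨hedef, hcdef, rfl, rfl, rfl, rfl⟩, hd, ha, hb, hc, hx, he, bU, bV, cX, cE, xV, xE, eU, eX, XV, EU,
    ⟨hab, hca.symm, hcb.symm⟩, ⟨hxd.symm, hed.symm, hex.symm⟩,
    ⟨fun h => hxd (fixd hc h), fun h => hed (fixd hc h), fun h => hex (cj_inj hD h).symm⟩,
    ⟨fun h => hxd (fixd hb h), fun h => hed (fixd hb h), fun h => hex (cj_inj hD h).symm⟩,
    ⟨fun h => nab (h.symm ▸ bV.2.2.symm), fun h => nac (h.symm ▸ cE.2.2.symm), fun h => ?_⟩,
    ⟨fun h => nab (h.symm ▸ bU.2.2.symm), fun h => nac (h.symm ▸ cX.2.2.symm), fun h => ?_⟩,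
    ⟨fun h => nac (h.symm ▸ he.2.2), fun h => nbc (h.symm ▸ bV.2.2), fun h => neb (h.symm ▸ bV.2.2.symm)⟩,
    ⟨fun h => nab (h.symm ▸ hx.2.2), fun h => nbc (h.symm ▸ cX.2.2.symm), fun h => nxc (h.symm ▸ cX.2.2.symm)⟩,
    ⟨fun h => nac (h.symm ▸ hx.2.2), fun h => nbc (h.symm ▸ bU.2.2), fun h => nxb (h.symm ▸ bU.2.2.symm)⟩,
    ⟨fun h => nab (h.symm ▸ he.2.2), fun h => nbc (h.symm ▸ cE.2.2.symm), fun h => nec (h.symm ▸ cE.2.2.symm)⟩⟩
  · exact hed (fixd hc (key hb hc hcb.symm bV (h ▸ cE)).symm)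
  · exact hxd (fixd hc (key hb hc hcb.symm bU (h ▸ cX)).symm)

/-- A member with no twin forces `S₅`. -/
theorem petersen_case {d : G} (hd : d ∈ D) (h1 : ∀ x ∈ D, nbr D x = nbr D d → x = d) :
    Nonempty (↥(Subgroup.closure D) ≃* Equiv.Perm (Fin 5)) := by
  obtain ⟨a, b, c, x, e, X, E, U, V, h⟩ := exists_ten hD hd h1
  -- the ten are closed under neighbours
  let K : G → Prop := fun v =>
    v = d ∨ v = a ∨ v = b ∨ v = c ∨ v = x ∨ v = e ∨ v = X ∨ v = E ∨ v = U ∨ v = V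
  have clos : ∀ {p u v w : G}, p ∈ D → u ∈ nbr D p → v ∈ nbr D p → w ∈ nbr D p → u ≠ v → u ≠ w → v ≠ w →
      K u → K v → K w → ∀ {y : G}, y ∈ nbr D p → K y := fun {p u v w} hp hu hv hw h1 h2 h3 ku kv kw {y} hy => by
    rcases nbr_of_three hD hp hu hv hw h1 h2 h3 hy with rfl | rfl | rfl <;> assumption
  have kd : K d := Or.inl rfl
  have ka : K a := by simp [K]
  have kb : K b := by simp [K]
  have kc : K c := by simp [K]
  have kx : K x := by simp [K]
  have ke : K e := by simp [K]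
  have kX : K X := by simp [K]
  have kE : K E := by simp [K]
  have kU : K U := by simp [K]
  have kV : K V := by simp [K]
  have sy : ∀ {p q : G}, p ∈ D → q ∈ nbr D p → p ∈ nbr D q := fun hp hq => nbr_symm hD hp hq
  have hclosed : ∀ {k : G}, K k → ∀ {y : G}, y ∈ nbr D k → K y := by
    intro k hk y hy
    rcases hk with rfl | rfl | rfl | rfl | rfl | rfl | rfl | rfl | rfl | rfl
    · exact clos h.md h.da h.db h.dc h.nd.1 h.nd.2.1 h.nd.2.2 ka kb kc hy
    · exact clos h.da.1 (sy h.md h.da) h.ax h.ae h.na.1 h.na.2.1 h.na.2.2 kd kx ke hy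
    · exact clos h.db.1 (sy h.md h.db) h.bU h.bV h.nb.1 h.nb.2.1 h.nb.2.2 kd kU kV hy
    · exact clos h.dc.1 (sy h.md h.dc) h.cX h.cE h.nc.1 h.nc.2.1 h.nc.2.2 kd kX kE hy
    · exact clos h.ax.1 (sy h.da.1 h.ax) h.xV h.xE h.nx.1 h.nx.2.1 h.nx.2.2 ka kV kE hy
    · exact clos h.ae.1 (sy h.da.1 h.ae) h.eU h.eX h.ne.1 h.ne.2.1 h.ne.2.2 ka kU kX hy
    · exact clos h.cX.1 (sy h.dc.1 h.cX) (sy h.ae.1 h.eX) h.XV h.nX.1 h.nX.2.1 h.nX.2.2 kc ke kV hy
    · exact clos h.cE.1 (sy h.dc.1 h.cE) (sy h.ax.1 h.xE) h.EU h.nE.1 h.nE.2.1 h.nE.2.2 kc kx kU hy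
    · exact clos h.bU.1 (sy h.db.1 h.bU) (sy h.ae.1 h.eU) (sy h.cE.1 h.EU) h.nU.1 h.nU.2.1 h.nU.2.2 kb ke kE hy
    · exact clos h.bV.1 (sy h.db.1 h.bV) (sy h.ax.1 h.xV) (sy h.cX.1 h.XV) h.nV.1 h.nV.2.1 h.nV.2.2 kb kx kX hy
  -- there is nothing outside
  have hall : ∀ y ∈ D, K y := by
    intro y hy
    by_contra hyK
    have hnc : ∀ {k : G}, K k → ¬ Commute y k := fun {k} hk hc =>
      hyK (hclosed hk ⟨hy, fun e => hyK (e ▸ hk), hc.symm⟩)
    obtain ⟨r, r', hr, hr', hrr⟩ := exists_two hD hy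
    obtain ⟨-, -, -, hT⟩ := nbr_eq hD hy hr hr' hrr
    classical
    let col : G → Fin 3 := fun v => if v = r then 0 else if v = r' then 1 else 2
    have colinj : ∀ {u v : G}, u ∈ nbr D y → v ∈ nbr D y → u ≠ v → col u ≠ col v := by
      intro u v hu hv huv
      rcases hT u hu with rfl | rfl | rfl <;> rcases hT v hv with rfl | rfl | rfl <;>
        simp_all [col, Ne.symm hrr] <;> (repeat' split_ifs) <;> simp_all
    let f : G → G → G := fun p q => q * (p * y * p) * q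
    have fmem : ∀ {p q : G}, p ∈ D → K p → K q → q ∈ nbr D p → f p q ∈ nbr D y := fun hp kp kq hq =>
      path_nbr hD hy hp hq.1 hq.2.1.symm hq.2.2 (hnc kp) (hnc kq)
    have fsym : ∀ {p q : G}, q ∈ nbr D p → f q p = f p q := fun {p q} hq => by
      show p * (q * y * q) * p = q * (p * y * p) * q
      calc p * (q * y * q) * p = (p * q) * y * (q * p) := by group
        _ = (q * p) * y * (p * q) := by rw [hq.2.2.eq]
        _ = _ := by group
    have step : ∀ {p q q' : G}, p ∈ D → K p → K q → K q' → q ∈ nbr D p → q' ∈ nbr D p → q ≠ q' →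
        col (f p q) ≠ col (f p q') := by
      intro p q q' hp kp kq kq' hq hq' hne
      refine colinj (fmem hp kp kq hq) (fmem hp kp kq' hq') fun e => hne ?_
      have nq : ∀ {s : G}, K s → s ∈ nbr D p → ¬ Commute (p * y * p) s := fun {s} ks hs hc => hnc ks (by
        rw [← cj_fix hD hp hs.2.2] at hc
        exact (cj_commute hD hp).1 hc)
      exact conj_eq_imp hD (cj hD hp hy) hq.1 hq'.1 (nq kq hq) (nq kq' hq') e
    refine petersen_colour (col (f d a)) (col (f d b)) ?_ (col (f d c)) ?_ ?_ (col (f a x)) ?_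
      (col (f a e)) ?_ ?_ (col (f b U)) ?_ (col (f b V)) ?_ ?_ (col (f c X)) ?_ (col (f c E)) ?_ ?_
      (col (f x V)) ?_ ?_ (col (f x E)) ?_ ?_ ?_ (col (f e U)) ?_ ?_ (col (f e X)) ?_ ?_ ?_
      (col (f X V)) ?_ ?_ ?_ ?_ (col (f E U)) ?_ ?_ ?_ ?_
    · exact step h.md kd kb ka h.db h.da h.nd.1.symm
    · exact step h.md kd kc ka h.dc h.da h.nd.2.1.symm
    · exact step h.md kd kc kb h.dc h.db h.nd.2.2.symm
    · rw [← fsym h.da]; exact step h.da.1 ka kx kd h.ax (sy h.md h.da) h.na.1.symm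
    · rw [← fsym h.da]; exact step h.da.1 ka ke kd h.ae (sy h.md h.da) h.na.2.1.symm
    · exact step h.da.1 ka ke kx h.ae h.ax h.na.2.2.symm
    · rw [← fsym h.db]; exact step h.db.1 kb kU kd h.bU (sy h.md h.db) h.nb.1.symm
    · rw [← fsym h.db]; exact step h.db.1 kb kV kd h.bV (sy h.md h.db) h.nb.2.1.symm
    · exact step h.db.1 kb kV kU h.bV h.bU h.nb.2.2.symm
    · rw [← fsym h.dc]; exact step h.dc.1 kc kX kd h.cX (sy h.md h.dc) h.nc.1.symm
    · rw [← fsym h.dc]; exact step h.dc.1 kc kE kd h.cE (sy h.md h.dc) h.nc.2.1.symm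
    · exact step h.dc.1 kc kE kX h.cE h.cX h.nc.2.2.symm
    · rw [← fsym h.ax]; exact step h.ax.1 kx kV ka h.xV (sy h.da.1 h.ax) h.nx.1.symm
    · rw [← fsym h.xV, ← fsym h.bV]; exact step h.bV.1 kV kx kb (sy h.ax.1 h.xV) (sy h.db.1 h.bV) h.nV.1.symm
    · rw [← fsym h.ax]; exact step h.ax.1 kx kE ka h.xE (sy h.da.1 h.ax) h.nx.2.1.symm
    · exact step h.ax.1 kx kE kV h.xE h.xV h.nx.2.2.symm
    · rw [← fsym h.xE, ← fsym h.cE]; exact step h.cE.1 kE kx kc (sy h.ax.1 h.xE) (sy h.dc.1 h.cE) h.nE.1.symm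
    · rw [← fsym h.ae]; exact step h.ae.1 ke kU ka h.eU (sy h.da.1 h.ae) h.ne.1.symm
    · rw [← fsym h.eU, ← fsym h.bU]; exact step h.bU.1 kU ke kb (sy h.ae.1 h.eU) (sy h.db.1 h.bU) h.nU.1.symm
    · rw [← fsym h.ae]; exact step h.ae.1 ke kX ka h.eX (sy h.da.1 h.ae) h.ne.2.1.symm
    · exact step h.ae.1 ke kX kU h.eX h.eU h.ne.2.2.symm
    · rw [← fsym h.eX, ← fsym h.cX]; exact step h.cX.1 kX ke kc (sy h.ae.1 h.eX) (sy h.dc.1 h.cX) h.nX.1.symm
    · rw [← fsym h.cX]; exact step h.cX.1 kX kV kc h.XV (sy h.dc.1 h.cX) h.nX.2.1.symm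
    · rw [← fsym h.eX]; exact step h.cX.1 kX kV ke h.XV (sy h.ae.1 h.eX) h.nX.2.2.symm
    · rw [← fsym h.XV, ← fsym h.bV]; exact step h.bV.1 kV kX kb (sy h.cX.1 h.XV) (sy h.db.1 h.bV) h.nV.2.1.symm
    · rw [← fsym h.XV, ← fsym h.xV]; exact step h.bV.1 kV kX kx (sy h.cX.1 h.XV) (sy h.ax.1 h.xV) h.nV.2.2.symm
    · rw [← fsym h.cE]; exact step h.cE.1 kE kU kc h.EU (sy h.dc.1 h.cE) h.nE.2.1.symm
    · rw [← fsym h.xE]; exact step h.cE.1 kE kU kx h.EU (sy h.ax.1 h.xE) h.nE.2.2.symm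
    · rw [← fsym h.EU, ← fsym h.bU]; exact step h.bU.1 kU kE kb (sy h.cE.1 h.EU) (sy h.db.1 h.bU) h.nU.2.1.symm
    · rw [← fsym h.EU, ← fsym h.eU]; exact step h.bU.1 kU kE ke (sy h.cE.1 h.EU) (sy h.ae.1 h.eU) h.nU.2.2.symm
  -- the Coxeter generators
  obtain ⟨hedef, hcdef, hXdef, hEdef, hUdef, hVdef⟩ := h.rdef
  let s : ℕ → G := fun i => match i with
    | 0 => d
    | 1 => E
    | 2 => a
    | 3 => c
    | _ => 1
  have hmem : ∀ i, i < 4 → s i ∈ D := by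
    intro i hi
    interval_cases i
    exacts [h.md, h.cE.1, h.da.1, h.dc.1]
  have hrel : CoxeterA.Rel s 4 := by
    refine ⟨fun i hi => by rw [pow_two]; exact sq hD (hmem i hi), fun i hi => ?_, fun i j hij hj => ?_⟩
    · refine ThreeT.cube_of_not_commute hD.three (hmem i (by omega)) (hmem (i + 1) hi) ?_
      have : i < 3 := by omega
      interval_cases i
      · exact not_comm_of_nbr hD h.dc.1 (sy h.md h.dc) h.cE h.nc.2.1
      · exact fun e' => not_comm_of_nbr hD h.ax.1 (sy h.da.1 h.ax) h.xE h.nx.2.1 e'.symm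
      · exact not_comm_of_nbr hD h.md h.da h.dc h.nd.2.1
    · obtain ⟨hj2, hi⟩ : (j = 2 ∨ j = 3) ∧ i + 1 < j := ⟨by omega, hij⟩
      rcases hj2 with rfl | rfl
      · obtain rfl : i = 0 := by omega
        exact h.da.2.2
      · rcases (show i = 0 ∨ i = 1 by omega) with rfl | rfl
        · exact h.dc.2.2
        · exact h.cE.2.2.symm
  obtain ⟨f, hf, hfs⟩ := CoxeterA.exists_hom s hrel
  set C := Subgroup.closure (s '' Set.Iio 4)
  have hC : ∀ i, i < 4 → s i ∈ C := fun i hi => Subgroup.subset_closure ⟨i, hi, rfl⟩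
  have m : ∀ {g v : G}, g ∈ C → v ∈ C → g * v * g ∈ C := fun hg hv => mul_mem (mul_mem hg hv) hg
  have ca : a ∈ C := hC 2 (by norm_num)
  have cd : d ∈ C := hC 0 (by norm_num)
  have cc : c ∈ C := hC 3 (by norm_num)
  have cE : E ∈ C := hC 1 (by norm_num)
  have cb : b ∈ C := by
    have : a * c * a = b := by rw [hcdef]; exact cj_cj hD h.da.1 b
    exact this ▸ m ca cc
  have ce : e ∈ C := by
    have : b * E * b = e := by rw [hEdef]; exact cj_cj hD h.db.1 e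
    exact this ▸ m cb cE
  have cx : x ∈ C := by
    have : d * e * d = x := by rw [hedef]; exact cj_cj hD h.md x
    exact this ▸ m cd ce
  have hCD : C = Subgroup.closure D := by
    refine le_antisymm ((Subgroup.closure_le _).2 ?_) ((Subgroup.closure_le _).2 fun y hy => ?_)
    · rintro _ ⟨i, hi, rfl⟩; exact Subgroup.subset_closure (hmem i hi)
    · rcases hall y hy with rfl | rfl | rfl | rfl | rfl | rfl | rfl | rfl | rfl | rfl
      exacts [cd, ca, cb, cc, cx, ce, hXdef ▸ m cb cx, cE, hUdef ▸ m cc cx, hVdef ▸ m cc ce]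
  have hinj : Function.Injective f := by
    refine hom_perm5_injective f ?_
    rw [hfs 0 (by norm_num), hfs 2 (by norm_num)]
    intro e'
    refine h.da.2.1 ?_
    have e'' : d * a = 1 := e'
    rw [mul_eq_one_iff_eq_inv] at e''
    rw [e'', inv hD h.da.1]
  exact ⟨((MulEquiv.subgroupCongr (hCD.symm.trans hf.symm)).trans (MonoidHom.ofInjective hinj).symm)⟩

end CfsgLib.LocalSymThree
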