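import Cfsg.Agent.Spor3T.Basic
import Mathlib.Tactic.FinCases

set_option autoImplicit false
set_option synthInstance.maxSize 2000
set_option synthInstance.maxHeartbeats 400000

/-!
Sets of 3-transpositions in which every member commutes with exactly three others, these generating `S₃`:
the elementary configurations.
-/

namespace CfsgLib.LocalSymThree

open CfsgLib

variable {G : Type*} [Group G]

/-- The members of `D` different from `d` commuting with `d`. -/
def nbr (D : Set G) (d : G) : Set G := {y : G | y ∈ D ∧ y ≠ d ∧ Commute d y}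

/-- The hypothesis. -/
structure Hyp (D : Set G) : Prop where
  three : Cfsg.IsThreeTranspositionSet D
  conj : ∀ g : G, ∀ d ∈ D, g * d * g⁻¹ ∈ D
  loc : ∀ d ∈ D, Nonempty (↥(Subgroup.closure (nbr D d)) ≃* Equiv.Perm (Fin 3))

theorem perm3_commute : ∀ x y : Equiv.Perm (Fin 3), x * x = 1 → y * y = 1 → x ≠ 1 → y ≠ 1 →
    x * y = y * x → x = y := by decide +kernel

theorem perm3_invol : ∀ x y z w : Equiv.Perm (Fin 3), x * x = 1 → y * y = 1 → z * z = 1 → w * w = 1 →
    x ≠ 1 → y ≠ 1 → z ≠ 1 → w ≠ 1 → x ≠ y → x ≠ z → y ≠ z → w = x ∨ w = y ∨ w = z := by decide +kernel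

variable {D : Set G} (hD : Hyp D)

include hD

theorem sq {d : G} (hd : d ∈ D) : d * d = 1 := ThreeT.sq hD.three hd

theorem inv {d : G} (hd : d ∈ D) : d⁻¹ = d := ThreeT.inv hD.three hd

theorem cancel {d : G} (hd : d ∈ D) (x : G) : d * (d * x) = x := by rw [← mul_assoc, sq hD hd, one_mul]

theorem cj {g d : G} (hg : g ∈ D) (hd : d ∈ D) : g * d * g ∈ D := by
  have := hD.conj g d hd
  rwa [inv hD hg] at this

theorem cj_commute {g x y : G} (hg : g ∈ D) : Commute (g * x * g) (g * y * g) ↔ Commute x y := by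
  have := ThreeT.commute_conj_iff g x y
  rwa [inv hD hg] at this

theorem cj_cj {g : G} (hg : g ∈ D) (x : G) : g * (g * x * g) * g = x := by
  rw [show g * (g * x * g) * g = (g * g) * x * (g * g) by group, sq hD hg, one_mul, mul_one]

theorem cj_inj {g x y : G} (h : g * x * g = g * y * g) : x = y := mul_left_cancel (mul_right_cancel h)

theorem cj_fix {g x : G} (hg : g ∈ D) (h : Commute g x) : g * x * g = x := by
  rw [h.eq, mul_assoc, sq hD hg, mul_one]

theorem nbr_symm {d y : G} (hd : d ∈ D) (h : y ∈ nbr D d) : d ∈ nbr D y :=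
  ⟨hd, h.2.1.symm, h.2.2.symm⟩

theorem nbr_conj {g : G} (d : G) {y : G} (h : y ∈ nbr D d) : g * y * g⁻¹ ∈ nbr D (g * d * g⁻¹) :=
  ⟨hD.conj g y h.1, fun e => h.2.1 (mul_left_cancel (mul_right_cancel e)), (ThreeT.commute_conj_iff g d y).2 h.2.2⟩

theorem nbr_cj {g d y : G} (hg : g ∈ D) (h : y ∈ nbr D d) : g * y * g ∈ nbr D (g * d * g) := by
  have := nbr_conj hD (g := g) d h
  rwa [inv hD hg] at this

theorem not_comm_of_nbr {d a b : G} (hd : d ∈ D) (ha : a ∈ nbr D d) (hb : b ∈ nbr D d) (hne : a ≠ b) :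
    ¬ Commute a b := by
  intro h
  obtain ⟨e⟩ := hD.loc d hd
  let A : ↥(Subgroup.closure (nbr D d)) := ⟨a, Subgroup.subset_closure ha⟩
  let B : ↥(Subgroup.closure (nbr D d)) := ⟨b, Subgroup.subset_closure hb⟩
  have hA : e A * e A = 1 := by rw [← map_mul]; exact (map_eq_one_iff e e.injective).2 (Subtype.ext (sq hD ha.1))
  have hB : e B * e B = 1 := by rw [← map_mul]; exact (map_eq_one_iff e e.injective).2 (Subtype.ext (sq hD hb.1))
  have hA1 : e A ≠ 1 := fun h' => ThreeT.ne_one_of_orderOf (hD.three.1 a ha.1)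
    (congrArg Subtype.val ((map_eq_one_iff e e.injective).1 h'))
  have hB1 : e B ≠ 1 := fun h' => ThreeT.ne_one_of_orderOf (hD.three.1 b hb.1)
    (congrArg Subtype.val ((map_eq_one_iff e e.injective).1 h'))
  have := perm3_commute _ _ hA hB hA1 hB1 (by rw [← map_mul, ← map_mul]; exact congrArg e (Subtype.ext h.eq))
  exact hne (congrArg Subtype.val (e.injective this))

/-- The neighbourhood consists of `a`, `b`, `a b a`. -/
theorem nbr_eq {d a b : G} (hd : d ∈ D) (ha : a ∈ nbr D d) (hb : b ∈ nbr D d) (hne : a ≠ b) :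
    a * b * a ∈ nbr D d ∧ a * b * a ≠ a ∧ a * b * a ≠ b ∧
      ∀ y ∈ nbr D d, y = a ∨ y = b ∨ y = a * b * a := by
  have hnc := not_comm_of_nbr hD hd ha hb hne
  have hc : a * b * a ∈ nbr D d := by
    have := nbr_cj hD ha.1 hb
    rwa [cj_fix hD ha.1 ha.2.2.symm] at this
  have h1 : a * b * a ≠ a := fun e => hne (by
    have e1 : a * b * a = a * a * a := by rw [e, sq hD ha.1, one_mul]
    exact (cj_inj hD e1).symm)
  have h2 : a * b * a ≠ b := fun e => hnc (by
    show a * b = b * a
    conv_rhs => rw [← e]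
    rw [mul_assoc _ a a, sq hD ha.1, mul_one])
  refine ⟨hc, h1, h2, fun y hy => ?_⟩
  obtain ⟨e⟩ := hD.loc d hd
  let f : ∀ {v : G}, v ∈ nbr D d → ↥(Subgroup.closure (nbr D d)) := fun {v} hv => ⟨v, Subgroup.subset_closure hv⟩
  have hsq : ∀ {v : G} (hv : v ∈ nbr D d), e (f hv) * e (f hv) = 1 := fun hv => by
    rw [← map_mul]; exact (map_eq_one_iff e e.injective).2 (Subtype.ext (sq hD hv.1))
  have hone : ∀ {v : G} (hv : v ∈ nbr D d), e (f hv) ≠ 1 := fun hv h' =>
    ThreeT.ne_one_of_orderOf (hD.three.1 _ hv.1) (congrArg Subtype.val ((map_eq_one_iff e e.injective).1 h'))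
  have heq : ∀ {v w : G} (hv : v ∈ nbr D d) (hw : w ∈ nbr D d), e (f hv) = e (f hw) → v = w := fun hv hw h' =>
    congrArg Subtype.val (e.injective h')
  rcases perm3_invol _ _ _ _ (hsq ha) (hsq hb) (hsq hc) (hsq hy) (hone ha) (hone hb) (hone hc) (hone hy)
    (fun h' => hne (heq ha hb h')) (fun h' => h1 (heq ha hc h').symm) (fun h' => h2 (heq hb hc h').symm)
    with h | h | h
  · exact Or.inl (heq hy ha h)
  · exact Or.inr (Or.inl (heq hy hb h))
  · exact Or.inr (Or.inr (heq hy hc h))

/-- Three different neighbours are all of them. -/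
theorem nbr_of_three {d a b c : G} (hd : d ∈ D) (ha : a ∈ nbr D d) (hb : b ∈ nbr D d) (hc : c ∈ nbr D d)
    (hab : a ≠ b) (hac : a ≠ c) (hbc : b ≠ c) {y : G} (hy : y ∈ nbr D d) : y = a ∨ y = b ∨ y = c := by
  obtain ⟨-, -, -, h⟩ := nbr_eq hD hd ha hb hab
  rcases h c hc with rfl | rfl | rfl
  · exact absurd rfl hac
  · exact absurd rfl hbc
  · exact h y hy

theorem exists_two {d : G} (hd : d ∈ D) : ∃ a b, a ∈ nbr D d ∧ b ∈ nbr D d ∧ a ≠ b := by
  obtain ⟨e⟩ := hD.loc d hd
  by_contra hno
  push Not at hno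
  have hc : IsMulCommutative ↥(Subgroup.closure (nbr D d)) :=
    Subgroup.isMulCommutative_closure fun u hu v hv => by rw [hno u v hu hv]
  have key : ∀ x y : Equiv.Perm (Fin 3), x * y = y * x := fun x y => by
    refine e.symm.injective ?_
    rw [map_mul, map_mul]
    exact hc.is_comm.comm _ _
  revert key
  decide +kernel

/-- The path `a - y - d` with `a`, `d` commuting gives a new neighbour of `y`. -/
theorem path_nbr {y d a : G} (hy : y ∈ D) (hd : d ∈ D) (ha : a ∈ D) (hne : d ≠ a) (hda : Commute d a)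
    (hyd : ¬ Commute y d) (hya : ¬ Commute y a) : a * (d * y * d) * a ∈ nbr D y := by
  have b1 : y * d * y = d * y * d := ThreeT.braid hD.three hy hd hyd
  have b2 : a * y * a = y * a * y := ThreeT.braid hD.three ha hy fun h => hya h.symm
  refine ⟨cj hD ha (cj hD hd hy), fun e => hne ?_, ?_⟩
  · have e1 : d * y * d = a * y * a := by
      conv_rhs => rw [← e, cj_cj hD ha]
    rw [← b1, b2] at e1
    exact mul_left_cancel (mul_right_cancel e1)
  · show y * (a * (d * y * d) * a) = a * (d * y * d) * a * y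
    calc y * (a * (d * y * d) * a) = y * a * (y * d * y) * a := by rw [b1]; group
      _ = (y * a * y) * d * y * a := by group
      _ = (a * y * a) * d * y * a := by rw [b2]
      _ = a * y * (a * d) * y * a := by group
      _ = a * y * (d * a) * y * a := by rw [hda.eq]
      _ = a * y * d * (a * y * a) := by group
      _ = a * y * d * (y * a * y) := by rw [b2]
      _ = a * (y * d * y) * a * y := by group
      _ = a * (d * y * d) * a * y := by rw [b1]

/-- Two conjugators with the same effect agree. -/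
theorem conj_eq_imp {y p q : G} (hy : y ∈ D) (hp : p ∈ D) (hq : q ∈ D) (hyp : ¬ Commute y p)
    (hyq : ¬ Commute y q) (h : p * y * p = q * y * q) : p = q := by
  rw [← ThreeT.braid hD.three hy hp hyp, ← ThreeT.braid hD.three hy hq hyq] at h
  exact mul_left_cancel (mul_right_cancel h)

/-- Commuting with two neighbours gives the third. -/
theorem nbr_subset {d a b x : G} (hd : d ∈ D) (hx : x ∈ D) (ha : a ∈ nbr D d) (hb : b ∈ nbr D d) (hne : a ≠ b)
    (hxa : x ∈ nbr D a) (hxb : x ∈ nbr D b) : nbr D x = nbr D d := by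
  obtain ⟨hc, h1, h2, hall⟩ := nbr_eq hD hd ha hb hne
  have ha' := nbr_symm hD ha.1 hxa
  have hb' := nbr_symm hD hb.1 hxb
  obtain ⟨hc', -, -, hall'⟩ := nbr_eq hD hx ha' hb' hne
  ext y
  constructor
  · intro hy
    rcases hall' y hy with rfl | rfl | rfl <;> assumption
  · intro hy
    rcases hall y hy with rfl | rfl | rfl <;> assumption

end CfsgLib.LocalSymThree
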