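import Cfsg.Agent.LocalSymThree.Petersen
import Cfsg.Prelude.Def_Solvable
import Mathlib.GroupTheory.NoncommCoprod

set_option autoImplicit false
set_option synthInstance.maxSize 2000
set_option synthInstance.maxHeartbeats 400000

/-!
The case where every member has a twin: `S₃ × S₃`.
-/

namespace CfsgLib.LocalSymThree

open CfsgLib

theorem perm3_cube_commute : ∀ f g : Equiv.Perm (Fin 3), f * f * f = 1 → g * g * g = 1 → f * g = g * f := by
  decide +kernel

theorem perm3_centre : ∀ x : Equiv.Perm (Fin 3), x * Equiv.swap 0 1 = Equiv.swap 0 1 * x →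
    x * Equiv.swap 1 2 = Equiv.swap 1 2 * x → x = 1 := by decide +kernel

variable {G : Type*} [Group G] {D : Set G}

/-- Products of twins. -/
def twinProducts (D : Set G) : Set G := {g | ∃ u ∈ D, ∃ v ∈ D, nbr D u = nbr D v ∧ g = u * v}

variable (hD : Hyp D) (htwin : ∀ u ∈ D, ∃ u' ∈ D, u' ≠ u ∧ nbr D u' = nbr D u)

include hD

theorem mem_nbr_conj_iff (g u y : G) : y ∈ nbr D (g * u * g⁻¹) ↔ g⁻¹ * y * g ∈ nbr D u := by
  constructor
  · intro h
    have := nbr_conj hD (g := g⁻¹) (g * u * g⁻¹) h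
    rwa [inv_inv, show g⁻¹ * (g * u * g⁻¹) * g = u by group] at this
  · intro h
    have := nbr_conj hD (g := g) u h
    rwa [show g * (g⁻¹ * y * g) * g⁻¹ = y by group] at this

theorem nbr_conj_eq {u v : G} (g : G) (h : nbr D u = nbr D v) : nbr D (g * u * g⁻¹) = nbr D (g * v * g⁻¹) := by
  ext y; rw [mem_nbr_conj_iff hD, mem_nbr_conj_iff hD, h]

theorem twinProducts_conj (g : G) {w : G} (hw : w ∈ twinProducts D) : g * w * g⁻¹ ∈ twinProducts D := by
  obtain ⟨u, hu, v, hv, h, rfl⟩ := hw
  exact ⟨_, hD.conj g u hu, _, hD.conj g v hv, nbr_conj_eq hD g h, by group⟩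

theorem twinProducts_inv {w : G} (hw : w ∈ twinProducts D) : w⁻¹ ∈ twinProducts D := by
  obtain ⟨u, hu, v, hv, h, rfl⟩ := hw
  exact ⟨v, hv, u, hu, h.symm, by rw [mul_inv_rev, inv hD hv, inv hD hu]⟩

theorem twin_not_commute {u v : G} (hu : u ∈ D) (hne : u ≠ v) (h : nbr D u = nbr D v) :
    ¬ Commute u v := fun hc => by
  have : u ∈ nbr D v := ⟨hu, hne, hc.symm⟩
  rw [← h] at this
  exact this.2.1 rfl

theorem twinProducts_cube {w : G} (hw : w ∈ twinProducts D) : w ^ 3 = 1 := by
  obtain ⟨u, hu, v, hv, h, rfl⟩ := hw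
  by_cases hne : u = v
  · rw [hne, sq hD hv, one_pow]
  · exact ThreeT.cube_of_not_commute hD.three hu hv (twin_not_commute hD hu hne h)

theorem twinProducts_mem_closure {w : G} (hw : w ∈ twinProducts D) : w ∈ Subgroup.closure D := by
  obtain ⟨u, hu, v, hv, -, rfl⟩ := hw
  exact mul_mem (Subgroup.subset_closure hu) (Subgroup.subset_closure hv)

include htwin

/-- All neighbours of one member are twins. -/
theorem side {a v w : G} (ha : a ∈ D) (hv : v ∈ nbr D a) (hw : w ∈ nbr D a) : nbr D w = nbr D v := by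
  obtain ⟨v', hv', hne, hnb⟩ := htwin v hv.1
  have h1 : v' ∈ nbr D a := nbr_symm hD hv' (hnb ▸ nbr_symm hD ha hv)
  obtain ⟨-, -, -, hall⟩ := nbr_eq hD ha hv h1 hne.symm
  rcases hall w hw with rfl | rfl | rfl
  · rfl
  · exact hnb
  · have hvi : v⁻¹ = v := inv hD hv.1
    ext y
    constructor
    · intro hy
      have h2 := nbr_cj hD hv.1 hy
      rw [cj_cj hD hv.1, hnb] at h2
      have h3 : v * y * v = y := by
        have := cj_fix hD hv.1 h2.2.2
        rw [cj_cj hD hv.1] at this
        exact this.symm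
      rwa [h3] at h2
    · intro hy
      have h2 := nbr_cj hD hv.1 (hnb.symm ▸ hy : y ∈ nbr D v')
      rwa [cj_fix hD hv.1 hy.2.2] at h2

/-- Twin products fix the twin classes. -/
theorem twin_fix {g z : G} (hg : g ∈ twinProducts D) (hz : z ∈ D) : nbr D (g * z * g⁻¹) = nbr D z := by
  obtain ⟨u, hu, v, hv, huv, rfl⟩ := hg
  rw [show u * v * z * (u * v)⁻¹ = u * (v * z * v) * u by rw [mul_inv_rev, inv hD hu, inv hD hv]; group]
  by_cases h1 : z ∈ nbr D u
  · rw [cj_fix hD hv (huv ▸ h1 : z ∈ nbr D v).2.2, cj_fix hD hu h1.2.2]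
  obtain ⟨r, -, hr, -, -⟩ := exists_two hD hu
  have hur : u ∈ nbr D r := nbr_symm hD hu hr
  have hrv : r ∈ nbr D v := huv ▸ hr
  by_cases h2 : z ∈ nbr D r
  · have e1 : v * z * v ∈ nbr D r := by
      have := nbr_cj hD hv h2; rwa [cj_fix hD hv hrv.2.2] at this
    have e2 : u * (v * z * v) * u ∈ nbr D r := by
      have := nbr_cj hD hu e1; rwa [cj_fix hD hu hr.2.2] at this
    exact side hD htwin hr.1 h2 e2
  have nzr : ¬ Commute z r := fun h => h2 ⟨hz, fun e => h1 (e.symm ▸ hr), h.symm⟩
  have nzv : ¬ Commute z v := fun h => by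
    by_cases e : z = v
    · exact h2 (e.symm ▸ nbr_symm hD hv hrv)
    · exact h1 (huv.symm ▸ ⟨hz, e, h.symm⟩)
  have hw := path_nbr hD hz hv hr.1 hrv.2.1.symm hrv.2.2 nzv nzr
  set w := r * (v * z * v) * r with hwdef
  have hvuv : v * u * v ∈ nbr D r := by
    have := nbr_cj hD hv hur; rwa [cj_fix hD hv hrv.2.2] at this
  have nwr : ¬ Commute w r := fun h => nzr ((cj_commute hD hv).1 (by
    rw [cj_fix hD hv hrv.2.2]
    exact (cj_commute hD hr.1).1 (by rw [cj_fix hD hr.1 (Commute.refl r)]; exact h)))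
  have nwu : ¬ Commute w u := fun h => by
    have h' : Commute (v * z * v) u := (cj_commute hD hr.1).1 (by rw [cj_fix hD hr.1 hr.2.2.symm]; exact h)
    have h'' : Commute z (v * u * v) := (cj_commute hD hv).1 (by rw [cj_cj hD hv]; exact h')
    by_cases e : z = v * u * v
    · exact h2 (e.symm ▸ hvuv)
    · exact h1 (side hD htwin hr.1 hur hvuv ▸ (⟨hz, e, h''.symm⟩ : z ∈ nbr D (v * u * v)))
  have hg := path_nbr hD hw.1 hu hr.1 hr.2.1.symm hr.2.2 nwu nwr
  have e : r * (u * w * u) * r = u * (v * z * v) * u := by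
    rw [hwdef, show r * (u * (r * (v * z * v) * r) * u) * r = (r * u) * r * (v * z * v) * r * (u * r) by group,
      ← hr.2.2.eq]
    rw [show u * r * r * (v * z * v) * r * (u * r) = u * (r * r) * (v * z * v) * r * (u * r) by group,
      sq hD hr.1, mul_one, hr.2.2.eq, show u * (v * z * v) * r * (r * u) = u * (v * z * v) * (r * r) * u by group,
      sq hD hr.1, mul_one]
  rw [e] at hg
  exact side hD htwin hw.1 (nbr_symm hD hz hw) hg

/-- Twin products commute on `D`. -/
theorem twin_commute_on {g h z : G} (hg : g ∈ twinProducts D) (hh : h ∈ twinProducts D) (hz : z ∈ D) :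
    (g * h) * z * (g * h)⁻¹ = (h * g) * z * (h * g)⁻¹ := by
  obtain ⟨r, -, hr, -, -⟩ := exists_two hD hz
  have hzr : z ∈ nbr D r := nbr_symm hD hz hr
  let S := {x : G // x ∈ nbr D r}
  have hmem : ∀ {w : G}, w ∈ twinProducts D → ∀ x : S, w * x.1 * w⁻¹ ∈ nbr D r := fun {w} hw x => by
    have h1 : r ∈ nbr D x.1 := nbr_symm hD hr.1 x.2
    rw [← twin_fix hD htwin hw x.2.1] at h1
    exact nbr_symm hD (hD.conj w _ x.2.1) h1
  let σ : ∀ {w : G}, w ∈ twinProducts D → Equiv.Perm S := fun {w} hw =>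
    { toFun := fun x => ⟨w * x.1 * w⁻¹, hmem hw x⟩
      invFun := fun x => ⟨w⁻¹ * x.1 * w, by simpa using hmem (twinProducts_inv hD hw) x⟩
      left_inv := fun x => Subtype.ext (by group)
      right_inv := fun x => Subtype.ext (by group) }
  obtain ⟨p, q, hp, hq, hpq⟩ := exists_two hD hr.1
  obtain ⟨ht, htp, htq, hall⟩ := nbr_eq hD hr.1 hp hq hpq
  let e0 : Fin 3 → S := ![⟨p, hp⟩, ⟨q, hq⟩, ⟨p * q * p, ht⟩]
  have hbij : Function.Bijective e0 := by
    refine ⟨fun i j hij => ?_, fun x => ?_⟩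
    · have h := congrArg Subtype.val hij
      fin_cases i <;> fin_cases j <;> first
        | rfl
        | exact absurd h hpq
        | exact absurd h.symm hpq
        | exact absurd h htp
        | exact absurd h.symm htp
        | exact absurd h htq
        | exact absurd h.symm htq
    · rcases hall x.1 x.2 with e | e | e
      · exact ⟨0, Subtype.ext e.symm⟩
      · exact ⟨1, Subtype.ext e.symm⟩
      · exact ⟨2, Subtype.ext e.symm⟩
  let e := Equiv.ofBijective e0 hbij
  have hcube : ∀ {w : G} (hw : w ∈ twinProducts D),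
      (e.symm.permCongr (σ hw)) * (e.symm.permCongr (σ hw)) * (e.symm.permCongr (σ hw)) = 1 := fun {w} hw => by
    ext i : 1
    simp only [Equiv.Perm.mul_apply, Equiv.permCongr_apply, Equiv.symm_symm, Equiv.apply_symm_apply,
      Equiv.Perm.one_apply]
    rw [Equiv.symm_apply_eq]
    apply Subtype.ext
    show w * (w * (w * (e i).1 * w⁻¹) * w⁻¹) * w⁻¹ = (e i).1
    rw [show w * (w * (w * (e i).1 * w⁻¹) * w⁻¹) * w⁻¹ = w ^ 3 * (e i).1 * (w ^ 3)⁻¹ by
        simp only [pow_succ, pow_zero, one_mul]; group,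
      twinProducts_cube hD hw]
    group
  have hcom := perm3_cube_commute _ _ (hcube hg) (hcube hh)
  have h2 := congrArg (fun f => (e (f (e.symm ⟨z, hzr⟩))).1) hcom
  simp only [Equiv.Perm.mul_apply, Equiv.permCongr_apply, Equiv.symm_symm, Equiv.apply_symm_apply] at h2
  calc g * h * z * (g * h)⁻¹ = g * (h * z * h⁻¹) * g⁻¹ := by group
    _ = h * (g * z * g⁻¹) * h⁻¹ := h2
    _ = _ := by group

theorem twin_isPGroup : IsPGroup 3 ↥(Subgroup.closure (twinProducts D)) := by
  have hWD : Subgroup.closure (twinProducts D) ≤ Subgroup.closure D :=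
    (Subgroup.closure_le _).2 fun w hw => twinProducts_mem_closure hD hw
  let Z : G → Prop := fun c => c ∈ Subgroup.closure D ∧ c ^ 3 = 1 ∧ ∀ y ∈ Subgroup.closure D, Commute c y
  have Z1 : Z 1 := ⟨one_mem _, one_pow _, fun y _ => Commute.one_left y⟩
  have Zmul : ∀ {c d : G}, Z c → Z d → Z (c * d) := fun hc hd =>
    ⟨mul_mem hc.1 hd.1, by rw [(hc.2.2 _ hd.1).mul_pow, hc.2.1, hd.2.1, one_mul],
      fun y hy => (hc.2.2 y hy).mul_left (hd.2.2 y hy)⟩
  have Zinv : ∀ {c : G}, Z c → Z c⁻¹ := fun hc =>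
    ⟨inv_mem hc.1, by rw [inv_pow, hc.2.1, inv_one], fun y hy => (hc.2.2 y hy).inv_left⟩
  have Zconj : ∀ {c x : G}, Z c → x ∈ Subgroup.closure D → x * c * x⁻¹ = c := fun hc hx => by
    rw [← (hc.2.2 _ hx).eq, mul_inv_cancel_right]
  have base : ∀ {g h : G}, g ∈ twinProducts D → h ∈ twinProducts D → Z (g * h * g⁻¹ * h⁻¹) := by
    intro g h hg hh
    have hgD := twinProducts_mem_closure hD hg
    have hhD := twinProducts_mem_closure hD hh
    set c := g * h * g⁻¹ * h⁻¹ with hc
    have hcD : c ∈ Subgroup.closure D := mul_mem (mul_mem (mul_mem hgD hhD) (inv_mem hgD)) (inv_mem hhD)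
    have hcen : ∀ y ∈ Subgroup.closure D, Commute c y := fun y hy => by
      induction hy using Subgroup.closure_induction with
      | mem z hz =>
        have h' : g⁻¹ * h⁻¹ * z * h * g ∈ D := by
          have := hD.conj (g⁻¹ * h⁻¹) z hz
          rwa [mul_inv_rev, inv_inv, inv_inv, ← mul_assoc] at this
        have := twin_commute_on hD htwin hg hh h'
        refine mul_inv_eq_iff_eq_mul.1 ?_
        calc c * z * c⁻¹ = g * h * (g⁻¹ * h⁻¹ * z * h * g) * (g * h)⁻¹ := by rw [hc]; group
          _ = h * g * (g⁻¹ * h⁻¹ * z * h * g) * (h * g)⁻¹ := this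
          _ = z := by group
      | one => exact Commute.one_right c
      | mul _ _ _ _ i j => exact i.mul_right j
      | inv _ _ i => exact i.inv_right
    refine ⟨hcD, ?_, hcen⟩
    have e1 : g * h * g⁻¹ = c * h := by rw [hc]; group
    have e2 : g ^ 3 * h * (g ^ 3)⁻¹ = c ^ 3 * h := by
      calc g ^ 3 * h * (g ^ 3)⁻¹ = g * (g * (g * h * g⁻¹) * g⁻¹) * g⁻¹ := by
            simp only [pow_succ, pow_zero, one_mul]; group
        _ = g * (g * c * g⁻¹ * (g * h * g⁻¹)) * g⁻¹ := by conv_lhs => rw [e1]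
                                                          group
        _ = g * (c * (c * h)) * g⁻¹ := by rw [← (hcen g hgD).eq, mul_inv_cancel_right, e1]
        _ = (g * c * g⁻¹) * ((g * c * g⁻¹) * (g * h * g⁻¹)) := by group
        _ = c ^ 3 * h := by
          rw [← (hcen g hgD).eq, mul_inv_cancel_right, e1]; simp only [pow_succ, pow_zero, one_mul]; group
    rw [twinProducts_cube hD hg, one_mul, inv_one, mul_one] at e2
    exact mul_eq_right.1 e2.symm
  have step1 : ∀ {x h : G}, x ∈ Subgroup.closure (twinProducts D) → h ∈ twinProducts D →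
      Z (x * h * x⁻¹ * h⁻¹) := by
    intro x h hx hh
    induction hx using Subgroup.closure_induction with
    | mem g hg => exact base hg hh
    | one => simpa using Z1
    | mul x y hx _ i j =>
      rw [show x * y * h * (x * y)⁻¹ * h⁻¹ = x * (y * h * y⁻¹ * h⁻¹) * x⁻¹ * (x * h * x⁻¹ * h⁻¹) by group,
        Zconj j (hWD hx)]
      exact Zmul j i
    | inv x hx i =>
      rw [show x⁻¹ * h * x⁻¹⁻¹ * h⁻¹ = x⁻¹ * (x * h * x⁻¹ * h⁻¹)⁻¹ * x⁻¹⁻¹ by group,
        Zconj (Zinv i) (hWD (inv_mem hx))]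
      exact Zinv i
  have step2 : ∀ {x y : G}, x ∈ Subgroup.closure (twinProducts D) → y ∈ Subgroup.closure (twinProducts D) →
      Z (x * y * x⁻¹ * y⁻¹) := by
    intro x y hx hy
    induction hy using Subgroup.closure_induction with
    | mem h hh => exact step1 hx hh
    | one => simpa using Z1
    | mul y w hy _ i j =>
      rw [show x * (y * w) * x⁻¹ * (y * w)⁻¹ = (x * y * x⁻¹ * y⁻¹) * (y * (x * w * x⁻¹ * w⁻¹) * y⁻¹) by group,
        Zconj j (hWD hy)]
      exact Zmul i j
    | inv y hy i =>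
      rw [show x * y⁻¹ * x⁻¹ * y⁻¹⁻¹ = y⁻¹ * (x * y * x⁻¹ * y⁻¹)⁻¹ * y⁻¹⁻¹ by group,
        Zconj (Zinv i) (hWD (inv_mem hy))]
      exact Zinv i
  have hcube : ∀ x ∈ Subgroup.closure (twinProducts D), x ^ 3 = 1 := by
    intro x hx
    induction hx using Subgroup.closure_induction with
    | mem g hg => exact twinProducts_cube hD hg
    | one => exact one_pow 3
    | mul x y hx hy i j =>
      obtain ⟨-, hc3, hcen⟩ := step2 hy hx
      set c := y * x * y⁻¹ * x⁻¹ with hc
      have e : y * x = c * (x * y) := by rw [hc]; group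
      have hcx := (hcen x (hWD hx)).eq
      calc (x * y) ^ 3 = x * (y * x) * (y * x) * y := by simp only [pow_succ, pow_zero, one_mul]; group
        _ = (x * c) * (x * y) * (c * (x * y)) * y := by rw [e]; group
        _ = c * (x * x * y * c) * x * y * y := by rw [← hcx]; group
        _ = c * (c * (x * x * y)) * x * y * y := by
          rw [← (hcen (x * x * y) (mul_mem (mul_mem (hWD hx) (hWD hx)) (hWD hy))).eq]
        _ = c * c * (x * x * (y * x) * y * y) := by group
        _ = c * c * ((x * x * c) * x * y * y * y) := by rw [e]; group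
        _ = c * c * ((c * (x * x)) * x * y * y * y) := by
          rw [← (hcen (x * x) (mul_mem (hWD hx) (hWD hx))).eq]
        _ = c ^ 3 * x ^ 3 * y ^ 3 := by simp only [pow_succ, pow_zero, one_mul]; group
        _ = 1 := by rw [hc3, i, j, one_mul, one_mul]
    | inv x _ i => rw [inv_pow, i, inv_one]
  exact fun x => ⟨1, Subtype.ext (by simpa using hcube x x.2)⟩

theorem twin_closure_fix {g z : G} (hg : g ∈ Subgroup.closure (twinProducts D)) (hz : z ∈ D) :
    nbr D (g * z * g⁻¹) = nbr D z := by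
  revert z
  induction hg using Subgroup.closure_induction with
  | mem g hg => exact fun hz => twin_fix hD htwin hg hz
  | one => intro z hz; simp
  | mul g h _ _ i j =>
    intro z hz
    rw [show g * h * z * (g * h)⁻¹ = g * (h * z * h⁻¹) * g⁻¹ by group, i (hD.conj h z hz), j hz]
  | inv g _ i =>
    intro z hz
    have := i (hD.conj g⁻¹ z hz)
    rw [show g * (g⁻¹ * z * g⁻¹⁻¹) * g⁻¹ = z by group] at this
    exact this.symm

/-- With the bound on the 3-core of centralisers, a commuting pair inverts all twin products. -/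
theorem twin_inverted [Finite G] (hcore : ∀ d ∈ D, Nat.card (Cfsg.pCore 3 ↥(Subgroup.centralizer ({d} : Set G))) = 3)
    {d a : G} (hd : d ∈ D) (ha : a ∈ nbr D d) {g : G} (hg : g ∈ Subgroup.closure (twinProducts D)) :
    (a * d) * g * (a * d)⁻¹ = g⁻¹ := by
  classical
  set P := Subgroup.closure (twinProducts D) with hPdef
  have hp3 : IsPGroup 3 P := twin_isPGroup hD htwin
  have hda : d ∈ nbr D a := nbr_symm hD hd ha
  obtain ⟨d', hd', hdd, hdnb⟩ := htwin d hd
  obtain ⟨a', ha', haa, hanb⟩ := htwin a ha.1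
  set p := d * d' with hp
  set q := a * a' with hq
  have hpP : p ∈ P := Subgroup.subset_closure ⟨d, hd, d', hd', hdnb.symm, rfl⟩
  have hqP : q ∈ P := Subgroup.subset_closure ⟨a, ha.1, a', ha', hanb.symm, rfl⟩
  have had' : a ∈ nbr D d' := hdnb.symm ▸ ha
  have hda' : d ∈ nbr D a' := hanb.symm ▸ hda
  have ha'd : a' ∈ nbr D d := nbr_symm hD ha' hda'
  have ha'd' : a' ∈ nbr D d' := hdnb.symm ▸ ha'd
  have hap : Commute a p := (ha.2.2.symm).mul_right had'.2.2.symm
  have hdq : Commute d q := ha.2.2.mul_right ha'd.2.2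
  have hpq : Commute p q :=
    (ha.2.2.mul_left had'.2.2).mul_right (ha'd.2.2.mul_left ha'd'.2.2)
  have hp3' : orderOf p = 3 := ThreeT.orderOf_mul_of_not_commute hD.three hd hd'
    (twin_not_commute hD hd hdd.symm hdnb.symm)
  have hq3 : orderOf q = 3 := ThreeT.orderOf_mul_of_not_commute hD.three ha.1 ha'
    (twin_not_commute hD ha.1 haa.symm hanb.symm)
  have hdp : d * p * d = p⁻¹ := by rw [hp, cancel hD hd, mul_inv_rev, inv hD hd, inv hD hd']
  have haq : a * q * a = q⁻¹ := by rw [hq, cancel hD ha.1, mul_inv_rev, inv hD ha.1, inv hD ha']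
  -- the bound
  have hPn : P.Normal := ⟨fun x hx g => by
    induction hx using Subgroup.closure_induction with
    | mem v hv => exact Subgroup.subset_closure (twinProducts_conj hD g hv)
    | one => simp
    | mul v w _ _ i j => rw [← conj_mul]; exact mul_mem i j
    | inv v _ i => rw [← conj_inv]; exact inv_mem i⟩
  set C := Subgroup.centralizer ({d} : Set G) with hC
  have hside : ∀ g : P, (g : G) * d * (g : G)⁻¹ ∈ nbr D a := fun g => by
    refine nbr_symm hD (hD.conj _ d hd) ?_
    rw [twin_closure_fix hD htwin g.2 hd]; exact ha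
  have hquot : Nat.card (P ⧸ C.subgroupOf P) ≤ 3 := by
    let f : P ⧸ C.subgroupOf P → {x : G // x ∈ nbr D a} := fun t => Quotient.liftOn' t
      (fun g => ⟨(g : G) * d * (g : G)⁻¹, hside g⟩) fun x y hxy => by
        rw [QuotientGroup.leftRel_apply, Subgroup.mem_subgroupOf, hC, Subgroup.mem_centralizer_singleton_iff] at hxy
        apply Subtype.ext
        simp only [Subgroup.coe_mul, Subgroup.coe_inv] at hxy ⊢
        calc (x : G) * d * (x : G)⁻¹ = (x : G) * (d * ((x : G)⁻¹ * y)) * (y : G)⁻¹ := by group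
          _ = (x : G) * ((x : G)⁻¹ * y * d) * (y : G)⁻¹ := by rw [← hxy]
          _ = _ := by group
    have hf : Function.Injective f := by
      intro s t hst
      induction s using QuotientGroup.induction_on with | _ x => ?_
      induction t using QuotientGroup.induction_on with | _ y => ?_
      have e : (x : G) * d * (x : G)⁻¹ = (y : G) * d * (y : G)⁻¹ := congrArg Subtype.val hst
      rw [QuotientGroup.eq, Subgroup.mem_subgroupOf, hC, Subgroup.mem_centralizer_singleton_iff]
      simp only [Subgroup.coe_mul, Subgroup.coe_inv]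
      calc (x : G)⁻¹ * y * d = (x : G)⁻¹ * ((y : G) * d * (y : G)⁻¹) * y := by group
        _ = (x : G)⁻¹ * ((x : G) * d * (x : G)⁻¹) * y := by rw [e]
        _ = d * ((x : G)⁻¹ * y) := by group
    obtain ⟨u, v, hu, hv, huv⟩ := exists_two hD ha.1
    obtain ⟨-, -, -, hall⟩ := nbr_eq hD ha.1 hu hv huv
    refine (Nat.card_le_card_of_injective f hf).trans ?_
    refine (Nat.card_le_card_of_injective
      (fun x : {x : G // x ∈ nbr D a} => if x.1 = u then (0 : Fin 3) else if x.1 = v then 1 else 2) ?_).trans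
      (Nat.card_fin 3).le
    intro x y hxy
    apply Subtype.ext
    rcases hall x.1 x.2 with e1 | e1 | e1 <;> rcases hall y.1 y.2 with e2 | e2 | e2 <;>
      simp only [e1, e2] at hxy ⊢ <;> (try split_ifs at hxy) <;> simp_all
  have hsub : Nat.card (C.subgroupOf P) ≤ 3 := by
    have h1 : Nat.card (C.subgroupOf P) = Nat.card (P.subgroupOf C) := by
      have hA : Nat.card ((C.subgroupOf P).map P.subtype) = Nat.card (C.subgroupOf P) :=
        Subgroup.card_map_of_injective (Subgroup.subtype_injective P)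
      have hB : Nat.card ((P.subgroupOf C).map C.subtype) = Nat.card (P.subgroupOf C) :=
        Subgroup.card_map_of_injective (Subgroup.subtype_injective C)
      rw [← hA, ← hB, Subgroup.subgroupOf_map_subtype, Subgroup.subgroupOf_map_subtype, inf_comm]
    rw [h1, ← hcore d hd]
    exact Subgroup.card_le_of_le (le_sSup ⟨inferInstance,
      hp3.comap_of_injective C.subtype (Subgroup.subtype_injective C)⟩)
  have hcard : Nat.card P ≤ 9 := by
    rw [Subgroup.card_eq_card_quotient_mul_card_subgroup (C.subgroupOf P)]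
    exact Nat.mul_le_mul hquot hsub
  -- so `P` consists of the products
  let F : Fin 3 × Fin 3 → P := fun i => ⟨p ^ (i.1 : ℕ) * q ^ (i.2 : ℕ), mul_mem (pow_mem hpP _) (pow_mem hqP _)⟩
  have hFinj : Function.Injective F := by
    rintro ⟨i, j⟩ ⟨k, l⟩ h
    have e : p ^ (i : ℕ) * q ^ (j : ℕ) = p ^ (k : ℕ) * q ^ (l : ℕ) := congrArg Subtype.val h
    have e' : (p⁻¹) ^ (i : ℕ) * q ^ (j : ℕ) = (p⁻¹) ^ (k : ℕ) * q ^ (l : ℕ) := by
      have hconj : ∀ n m : ℕ, d * (p ^ n * q ^ m) * d⁻¹ = (p⁻¹) ^ n * q ^ m := fun n m => by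
        rw [← conj_mul, ← conj_pow, ← conj_pow, inv hD hd, hdp, cj_fix hD hd hdq]
      rw [← hconj, ← hconj, e]
    have hdiv : p ^ (i : ℕ) * (p ^ (i : ℕ)) = p ^ (k : ℕ) * (p ^ (k : ℕ)) := by
      have h1 : (p ^ (k : ℕ))⁻¹ * p ^ (i : ℕ) = q ^ (l : ℕ) * (q ^ (j : ℕ))⁻¹ := by
        rw [eq_mul_inv_iff_mul_eq, mul_assoc, e, inv_mul_cancel_left]
      have h2 : ((p⁻¹) ^ (k : ℕ))⁻¹ * (p⁻¹) ^ (i : ℕ) = q ^ (l : ℕ) * (q ^ (j : ℕ))⁻¹ := by
        rw [eq_mul_inv_iff_mul_eq, mul_assoc, e', inv_mul_cancel_left]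
      rw [inv_pow, inv_pow, inv_inv] at h2
      have h3 := h1.trans h2.symm
      calc p ^ (i : ℕ) * p ^ (i : ℕ) = p ^ (k : ℕ) * ((p ^ (k : ℕ))⁻¹ * p ^ (i : ℕ)) * p ^ (i : ℕ) := by group
        _ = p ^ (k : ℕ) * (p ^ (k : ℕ) * (p ^ (i : ℕ))⁻¹) * p ^ (i : ℕ) := by rw [h3]
        _ = _ := by group
    rw [← pow_add, ← pow_add, pow_eq_pow_iff_modEq, hp3'] at hdiv
    have hik : i = k := Fin.ext (by unfold Nat.ModEq at hdiv; omega)
    subst hik
    have e2 := mul_left_cancel e
    rw [pow_eq_pow_iff_modEq, hq3] at e2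
    exact Prod.ext rfl (Fin.ext (show (j : ℕ) = l by unfold Nat.ModEq at e2; omega))
  obtain ⟨⟨i, j⟩, hij⟩ : ∃ i, F i = ⟨g, hg⟩ :=
    (hFinj.bijective_of_nat_card_le (by simpa using hcard)).2 _
  have hij' : p ^ (i : ℕ) * q ^ (j : ℕ) = g := congrArg Subtype.val hij
  have hinvp : (a * d) * p * (a * d)⁻¹ = p⁻¹ := by
    rw [mul_inv_rev, inv hD hd, inv hD ha.1, show a * d * p * (d * a) = a * (d * p * d) * a by group, hdp,
      cj_fix hD ha.1 hap.inv_right]
  have hinvq : (a * d) * q * (a * d)⁻¹ = q⁻¹ := by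
    rw [mul_inv_rev, inv hD hd, inv hD ha.1, show a * d * q * (d * a) = a * (d * q * d) * a by group,
      cj_fix hD hd hdq, haq]
  rw [← hij', ← conj_mul, ← conj_pow, ← conj_pow, hinvp, hinvq, inv_pow, inv_pow]
  exact (hpq.pow_pow (i : ℕ) (j : ℕ)).inv_inv.eq.trans (mul_inv_rev _ _).symm

theorem twin_case [Finite G] (hne : D.Nonempty)
    (hcore : ∀ d ∈ D, Nat.card (Cfsg.pCore 3 ↥(Subgroup.centralizer ({d} : Set G))) = 3) :
    Nonempty (↥(Subgroup.closure D) ≃* Equiv.Perm (Fin 3) × Equiv.Perm (Fin 3)) := by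
  obtain ⟨d, hd⟩ := hne
  obtain ⟨a, -, ha, -, -⟩ := exists_two hD hd
  have hda : d ∈ nbr D a := nbr_symm hD hd ha
  have hAB : D ⊆ nbr D a ∪ nbr D d := by
    intro y hy
    by_contra hno
    rw [Set.mem_union, not_or] at hno
    have nyd : ¬ Commute y d := fun h => by
      by_cases e : y = d
      · exact hno.1 (e.symm ▸ hda)
      · exact hno.2 ⟨hy, e, h.symm⟩
    have nya : ¬ Commute y a := fun h => by
      by_cases e : y = a
      · exact hno.2 (e.symm ▸ ha)
      · exact hno.1 ⟨hy, e, h.symm⟩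
    have hw := path_nbr hD hy hd ha.1 ha.2.1.symm ha.2.2 nyd nya
    set w := a * (d * y * d) * a with hwdef
    have b1 : y * d * y = d * y * d := ThreeT.braid hD.three hy hd nyd
    have b2 : y * a * y = a * y * a := ThreeT.braid hD.three hy ha.1 nya
    have h3 : d * y * d ∈ nbr D (a * y * a) := by
      refine ⟨cj hD hd hy, fun e => ha.2.1 ?_, ?_⟩
      · rw [← b1, ← b2] at e; exact (cj_inj hD e).symm
      · rw [← b1, ← b2]; exact (cj_commute hD hy).2 ha.2.2.symm
    have hid : (a * d) * (y * w) = (d * y * d) * (a * y * a) := by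
      have hwy : y * w = w * y := hw.2.2.eq
      rw [hwy, hwdef]
      calc a * d * (a * (d * y * d) * a * y) = (a * d) * (a * d) * y * (d * a) * y := by group
        _ = a * (d * a) * d * y * (d * a) * y := by group
        _ = a * (a * d) * d * y * (d * a) * y := by rw [ha.2.2.eq]
        _ = y * (d * a) * y := by rw [cancel hD ha.1, sq hD hd, one_mul]
        _ = y * d * (y * y) * a * y := by rw [sq hD hy]; group
        _ = (y * d * y) * (y * a * y) := by group
        _ = _ := by rw [b1, b2]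
    obtain ⟨d', hd', hdd, hdnb⟩ := htwin d hd
    set p := d * d' with hp
    have hpP : p ∈ Subgroup.closure (twinProducts D) :=
      Subgroup.subset_closure ⟨d, hd, d', hd', hdnb.symm, rfl⟩
    have i1 := twin_inverted hD htwin hcore hd ha (inv_mem hpP)
    have i2 := twin_inverted hD htwin hcore hw.1 (nbr_symm hD hy hw) hpP
    have i3 := twin_inverted hD htwin hcore h3.1 (nbr_symm hD (cj hD ha.1 hy) h3) hpP
    rw [h3.2.2.eq, ← hid, show (a * d) * (y * w) * p * ((a * d) * (y * w))⁻¹ =
      (a * d) * ((y * w) * p * (y * w)⁻¹) * (a * d)⁻¹ by group, i2, i1, inv_inv] at i3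
    have h2 : p ^ 2 = 1 := by rw [pow_two]; nth_rewrite 1 [i3]; exact inv_mul_cancel p
    have h3' : orderOf p = 3 := ThreeT.orderOf_mul_of_not_commute hD.three hd hd'
      (twin_not_commute hD hd hdd.symm hdnb.symm)
    have := orderOf_dvd_of_pow_eq_one h2
    rw [h3'] at this
    omega
  set A := Subgroup.closure (nbr D a) with hA
  set B := Subgroup.closure (nbr D d) with hB
  have hcomm : ∀ (x : A) (y : B), Commute (A.subtype x) (B.subtype y) := by
    rintro ⟨x, hx⟩ ⟨y, hy⟩
    show Commute x y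
    induction hx using Subgroup.closure_induction with
    | mem u hu =>
      induction hy using Subgroup.closure_induction with
      | mem v hv => exact ((side hD htwin ha.1 hu hda) ▸ hv : v ∈ nbr D u).2.2
      | one => exact Commute.one_right u
      | mul _ _ _ _ i j => exact i.mul_right j
      | inv _ _ i => exact i.inv_right
    | one => exact Commute.one_left y
    | mul _ _ _ _ i j => exact i.mul_left j
    | inv _ _ i => exact i.inv_left
  let φ := A.subtype.noncommCoprod B.subtype hcomm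
  obtain ⟨eA⟩ := hD.loc a ha.1
  obtain ⟨eB⟩ := hD.loc d hd
  have hinj : Function.Injective φ := by
    rw [injective_iff_map_eq_one]
    rintro ⟨x, y⟩ h
    have hxy : (x : G) * (y : G) = 1 := h
    have hx : x = 1 := by
      refine eA.injective ?_
      rw [map_one]
      have hc : ∀ z : Equiv.Perm (Fin 3), eA x * z = z * eA x := fun z => by
        obtain ⟨z, rfl⟩ := eA.surjective z
        rw [← map_mul, ← map_mul]
        refine congrArg eA (Subtype.ext ?_)
        show (x : G) * z = z * x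
        rw [eq_inv_of_mul_eq_one_left hxy]
        exact ((hcomm z y).inv_right).symm.eq
      exact perm3_centre _ (hc _) (hc _)
    subst hx
    rw [Subgroup.coe_one, one_mul] at hxy
    exact Prod.ext rfl (Subtype.ext hxy)
  have hrange : φ.range = Subgroup.closure D := by
    rw [MonoidHom.noncommCoprod_range, Subgroup.range_subtype, Subgroup.range_subtype, hA, hB,
      ← Subgroup.closure_union]
    exact congrArg Subgroup.closure (Set.Subset.antisymm (fun z hz => hz.elim (fun h => h.1) (fun h => h.1)) hAB)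
  exact ⟨((MulEquiv.subgroupCongr hrange.symm).trans (MonoidHom.ofInjective hinj).symm).trans
    (MulEquiv.prodCongr eA eB)⟩

end CfsgLib.LocalSymThree
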